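import Mathlib
import Groth.Agent.RatModLib.LocalVan
import Groth.Agent.ModifLib.Leray

/-! The edge isomorphism in degree one, linearly. -/

set_option autoImplicit false
set_option linter.style.haveILetI false
set_option maxHeartbeats 1000000
set_option backward.isDefEq.respectTransparency false
universe u

open CategoryTheory CategoryTheory.Limits AlgebraicGeometry TopologicalSpace Opposite
open QCohLib (toAbF)
open EulerRpushLib (cycSeq cycSeq_shortExact nonempty_cokernel_iso_rpush IsAcyclic)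

noncomputable section

namespace ModUpLib

open ModifLib RatModLib

variable {A : Type u} [CommRing A] {X Y : Scheme.{u}}
  [X.Over (Spec (CommRingCat.of A))] [Y.Over (Spec (CommRingCat.of A))]

variable (f : Y ⟶ X) (hf : f ≫ (X ↘ Spec (CommRingCat.of A)) = Y ↘ Spec (CommRingCat.of A))

include hf in
/-- One step: the edge map is injective. -/
theorem length_step_le {S : ShortComplex Y.Modules} (hS : S.ShortExact) (h2 : IsAcyclic S.X₂)
    (h2' : IsAcyclic ((Coh.push f).obj S.X₂)) :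
    Module.length A (Coh.HH X ((Coh.push f).obj S.X₁) 1) ≤ Module.length A (Coh.HH Y S.X₁ 1) := by
  haveI : PreservesFiniteLimits (Coh.push f) :=
    have : PreservesLimitsOfSize.{u, u} (Coh.push f) :=
      (Scheme.Modules.pullbackPushforwardAdjunction f).rightAdjoint_preservesLimits
    inferInstance
  let φ : (Coh.push f).obj S.X₂ ⟶ (Coh.push f).obj S.X₃ := (Coh.push f).map S.g
  obtain ⟨hex, hmono⟩ :=
    (Functor.preservesFiniteLimits_iff_forall_exact_map_and_mono (Coh.push f)).mp inferInstance S hS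
  haveI : Mono (S.map (Coh.push f)).f := hmono
  let e₁ : (Coh.push f).obj S.X₁ ≅ kernel φ :=
    hex.fIsKernel.conePointUniqueUpToIso (limit.isLimit (parallelPair φ 0))
  let a := DevissLib.kerImSeq φ
  have ha : a.ShortExact := DevissLib.kerImSeq_shortExact φ
  let b := DevissLib.imCokSeq φ
  have hb : b.ShortExact := DevissLib.imCokSeq_shortExact φ
  have ea₃ : ∀ x, dL (A := A) ha 0 x = 0 → ∃ w, hL (A := A) a.g 0 w = x :=
    fun x hx => AtlasCoh.hExact₃ (QCohLib.toAbF_shortExact ha) 0 x hx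
  have zero₃ : ∀ {Z : Scheme.{u}} [Z.Over (Spec (CommRingCat.of A))] {T : ShortComplex Z.Modules} (hT : T.ShortExact)
      (p : ℕ) (x : Coh.HH Z T.X₂ p), dL (A := A) hT p (hL (A := A) T.g p x) = 0 := fun hT p x =>
    (Abelian.Ext.comp_assoc_of_second_deg_zero ..).trans
      ((congrArg (fun e => Abelian.Ext.comp x e rfl) (QCohLib.toAbF_shortExact hT).comp_extClass).trans
        (Abelian.Ext.comp_zero ..))
  let ψ : Coh.HH X b.X₂ 0 →ₗ[A] Coh.HH Y S.X₁ 1 :=
    (dL (A := A) hS 0).comp (pH0 f hf S.X₃).toLinearMap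
  have hψ : Function.Surjective ψ := by
    intro y
    haveI := h2 0
    obtain ⟨w, hw⟩ := AtlasCoh.hExact₁ (QCohLib.toAbF_shortExact hS) 0 y
      (Subsingleton.elim (α := Coh.HH Y S.X₂ 1) _ _)
    obtain ⟨z, rfl⟩ := (pH0 f hf S.X₃).surjective w
    exact ⟨z, hw⟩
  have hφ : ∀ x : Coh.HH X a.X₂ 0, hL (A := A) b.f 0 (hL (A := A) a.g 0 x) = hL (A := A) φ 0 x := fun x => by
    rw [← hL_comp]
    exact congrArg (fun g => hL (A := A) g 0 x) (Abelian.image.fac φ)
  have hψker : ∀ z, ψ z = 0 ↔ ∃ x, hL (A := A) φ 0 x = z := fun z => by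
    constructor
    · intro hz
      obtain ⟨y, hy⟩ := AtlasCoh.hExact₃ (QCohLib.toAbF_shortExact hS) 0 _ hz
      obtain ⟨x, rfl⟩ := (pH0 f hf S.X₂).surjective y
      exact ⟨x, (pH0 f hf S.X₃).injective ((pH0_natural f hf S.g x).symm.trans hy)⟩
    · rintro ⟨x, rfl⟩
      show dL (A := A) hS 0 (pH0 f hf S.X₃ (hL (A := A) φ 0 x)) = 0
      rw [← pH0_natural f hf S.g x]
      exact zero₃ hS 0 _
  let θ : Coh.HH X b.X₁ 0 →ₗ[A] Coh.HH Y S.X₁ 1 := ψ.comp (hL (A := A) b.f 0)
  have hθ : LinearMap.ker θ = LinearMap.ker (dL (A := A) ha 0) := by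
    ext w
    rw [LinearMap.mem_ker, LinearMap.mem_ker]
    refine (hψker _).trans ⟨fun ⟨x, hx⟩ => ?_, fun hw => ?_⟩
    · have : hL (A := A) a.g 0 x = w := AtlasCoh.hMap_injective (QCohLib.toAbF_shortExact hb) ((hφ x).trans hx)
      rw [← this]; exact zero₃ ha 0 x
    · obtain ⟨x, rfl⟩ := ea₃ w hw
      exact ⟨x, (hφ x).symm⟩
  have hδa : Function.Surjective (dL (A := A) ha 0) := fun y => by
    haveI := h2' 0
    exact AtlasCoh.hExact₁ (QCohLib.toAbF_shortExact ha) 0 y (Subsingleton.elim (α := Coh.HH X ((Coh.push f).obj S.X₂) 1) _ _)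
  let E1 : LinearMap.range θ ≃ₗ[A] Coh.HH X (kernel φ) 1 :=
    θ.quotKerEquivRange.symm ≪≫ₗ Submodule.quotEquivOfEq _ _ hθ ≪≫ₗ
      (dL (A := A) ha 0).quotKerEquivOfSurjective hδa
  rw [((hLIso (A := A) e₁ 1) ≪≫ₗ E1.symm).length_eq]
  exact Module.length_le_of_injective θ.range.subtype Subtype.val_injective

include hf in
/-- `length H¹(f_*G) ≤ length H¹(G)`. -/
theorem length_push_le [HasInjectiveResolutions Y.Modules] (G : Y.Modules) :
    Module.length A (Coh.HH X ((Coh.push f).obj G) 1) ≤ Module.length A (Coh.HH Y G 1) := by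
  let I := injectiveResolution G
  let e0 : (cycSeq I 0).X₁ ≅ G :=
    (kernelIsKernel _).conePointUniqueUpToIso I.isLimitKernelFork
  have hY : IsAcyclic (cycSeq I 0).X₂ :=
    haveI := RpushLib.isFlasque_toAb_injective (I.cocomplex.X 0)
    EulerRpushLib.isAcyclic_of_isFlasque _
  have hX : IsAcyclic ((Coh.push f).obj (cycSeq I 0).X₂) :=
    haveI := EulerRpushLib.isFlasque_push f (I.cocomplex.X 0)
    EulerRpushLib.isAcyclic_of_isFlasque _
  rw [← (hLIso (A := A) ((Coh.push f).mapIso e0) 1).length_eq, ← (hLIso (A := A) e0 1).length_eq]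
  exact length_step_le f hf (cycSeq_shortExact I 0) hY hX

end ModUpLib

end
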