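import Groth.Agent.S11834
import Mathlib

/-!
# Principalization of an ideal upstairs by an ideal downstairs (Kronecker's content argument)
-/

set_option autoImplicit false
set_option linter.style.haveILetI false
set_option linter.unusedSectionVars false

noncomputable section

universe u

open Polynomial IsLocalRing

namespace ModUpLib

/-- Every nonzero polynomial over an integral extension has a nonzero multiple over the base. -/
theorem exists_multiple_over {A B : Type u} [CommRing A] [IsDomain A] [CommRing B] [IsDomain B] [Algebra A B] [Algebra.IsIntegral A B]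
    {P : B[X]} (hP : P ≠ 0) : ∃ (G : B[X]) (N : A[X]), N ≠ 0 ∧ P * G = N.map (algebraMap A B) := by
  letI : Algebra A[X] B[X] := (mapRingHom (algebraMap A B)).toAlgebra
  haveI : Algebra.IsIntegral A[X] B[X] := ⟨fun p => Polynomial.isIntegral_iff_isIntegral_coeff.mpr fun n => Algebra.IsIntegral.isIntegral _⟩
  have h : (Ideal.span {P}).comap (algebraMap A[X] B[X]) ≠ ⊥ := fun h =>
    hP (Ideal.span_singleton_eq_bot.mp (Ideal.eq_bot_of_comap_eq_bot h))
  obtain ⟨N, hN, hN0⟩ := Submodule.exists_mem_ne_zero_of_ne_bot h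
  obtain ⟨G, hG⟩ := Ideal.mem_span_singleton.mp (Ideal.mem_comap.mp hN)
  exact ⟨G, N, hN0, hG.symm⟩

theorem exists_unit_coeff {R : Type u} [CommRing R] [IsDomain R] [IsLocalRing R] {f : ℕ → R} {t : R}
    (ht : t ≠ 0) (hspan : Ideal.span (Set.range f) = Ideal.span {t}) :
    ∃ i u, IsUnit u ∧ f i = t * u := by
  have hd : ∀ i, t ∣ f i := fun i => Ideal.mem_span_singleton.mp (hspan ▸ Ideal.subset_span ⟨i, rfl⟩)
  choose c hc using hd
  by_contra hne
  have hcm : ∀ i, c i ∈ maximalIdeal R := fun i =>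
    (mem_maximalIdeal _).mpr fun hu => hne ⟨i, c i, hu, hc i⟩
  have h1 : Ideal.span (Set.range f) ≤ Ideal.span {t} * maximalIdeal R := Ideal.span_le.mpr (by
    rintro _ ⟨i, rfl⟩
    rw [hc i]
    exact Ideal.mul_mem_mul (Ideal.mem_span_singleton_self t) (hcm i))
  have h2 : t ∈ Ideal.span {t} * maximalIdeal R := h1 (hspan ▸ Ideal.mem_span_singleton_self t)
  obtain ⟨z, hz, hz'⟩ := Ideal.mem_span_singleton_mul.mp h2
  have : z = 1 := mul_left_cancel₀ ht (by rw [hz', mul_one])
  exact (maximalIdeal.isMaximal R).ne_top ((Ideal.eq_top_iff_one _).mpr (this ▸ hz))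

/-- If the coefficients of a multiple generate a principal ideal, so do those of the polynomial. -/
theorem principal_of_multiple {R : Type u} [CommRing R] [IsDomain R] [IsLocalRing R] [IsIntegrallyClosed R]
    {P G : R[X]} {t : R} (ht : t ≠ 0) (h : Ideal.span (Set.range (P * G).coeff) = Ideal.span {t}) :
    ∃ i, P.coeff i ≠ 0 ∧ ∀ k, P.coeff i ∣ P.coeff k := by
  classical
  let F := FractionRing R
  let ι := algebraMap R F
  have hd : ∀ n, t ∣ (P * G).coeff n := fun n => Ideal.mem_span_singleton.mp (h ▸ Ideal.subset_span ⟨n, rfl⟩)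
  have hι0 : ι t ≠ 0 := (map_ne_zero_iff _ (IsFractionRing.injective R F)).mpr ht
  let g : F[X] := C (ι t)⁻¹ * G.map ι
  have hcoef : ∀ n, ∃ r, (P.map ι * g).coeff n = ι r := fun n => by
    obtain ⟨r, hr⟩ := hd n
    refine ⟨r, ?_⟩
    rw [show P.map ι * g = C (ι t)⁻¹ * (P * G).map ι by rw [Polynomial.map_mul]; ring, coeff_C_mul, coeff_map, hr,
      map_mul, ← mul_assoc, inv_mul_cancel₀ hι0, one_mul]
  have hprod : ∀ i j, ∃ r, P.coeff i * G.coeff j = t * r := fun i j => by
    have hint := Groth.Agent.S11834.result F ι.range (P.map ι) g (fun n => (hcoef n).imp fun r hr => hr.symm) i j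
    have hint' : IsIntegral R ((P.map ι).coeff i * g.coeff j) := by
      obtain ⟨p, hp, hp0⟩ := hint
      let σ : R ≃+* ι.range := RingEquiv.ofBijective ι.rangeRestrict
        ⟨fun a b hab => IsFractionRing.injective R F (congrArg Subtype.val hab), ι.rangeRestrict_surjective⟩
      refine ⟨p.map σ.symm.toRingHom, hp.map _, ?_⟩
      rw [eval₂_map, ← hp0]
      congr 1
      ext z
      exact congrArg Subtype.val (σ.apply_symm_apply z)
    obtain ⟨r, hr⟩ := IsIntegrallyClosed.isIntegral_iff.mp hint'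
    refine ⟨r, IsFractionRing.injective R F ?_⟩
    show ι _ = ι _
    rw [map_mul, map_mul, show ι r = _ from hr, coeff_map, coeff_C_mul, coeff_map, mul_left_comm (ι (P.coeff i)),
      ← mul_assoc, mul_inv_cancel₀ hι0, one_mul]
  choose r hr using hprod
  obtain ⟨n, u, hu, hn⟩ := exists_unit_coeff (f := (P * G).coeff) ht h
  rw [coeff_mul] at hn
  obtain ⟨⟨i, j⟩, hij, hu'⟩ : ∃ x ∈ Finset.HasAntidiagonal.antidiagonal n, IsUnit (r x.1 x.2) := by
    by_contra hne
    have : ∑ x ∈ Finset.HasAntidiagonal.antidiagonal n, r x.1 x.2 ∈ maximalIdeal R :=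
      Ideal.sum_mem _ fun x hx => (mem_maximalIdeal _).mpr fun hxu => hne ⟨x, hx, hxu⟩
    refine (mem_maximalIdeal _).mp this ?_
    convert hu
    refine mul_left_cancel₀ ht ?_
    rw [Finset.mul_sum, ← hn]
    exact Finset.sum_congr rfl fun x _ => (hr _ _).symm
  refine ⟨i, fun h0 => ?_, fun k => ?_⟩
  · have := hr i j
    rw [h0, zero_mul] at this
    exact (mul_ne_zero ht hu'.ne_zero) this.symm
  · obtain ⟨v, hv⟩ := hu'
    refine ⟨r k j * ↑v⁻¹, ?_⟩
    have hG : G.coeff j ≠ 0 := fun h0 => by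
      have := hr i j
      rw [h0, mul_zero] at this
      exact (mul_ne_zero ht (hv ▸ v.ne_zero)) this.symm
    refine mul_right_cancel₀ hG ?_
    calc P.coeff k * G.coeff j = t * r k j := hr k j
      _ = t * r i j * (r k j * ↑v⁻¹) := by
        rw [← hv]
        linear_combination (-(t * r k j)) * Units.mul_inv v
      _ = P.coeff i * G.coeff j * (r k j * ↑v⁻¹) := by rw [hr i j]
      _ = P.coeff i * (r k j * ↑v⁻¹) * G.coeff j := by ring

end ModUpLib
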