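import Groth.Agent.RatModLib.TraceSplit
import Groth.Agent.RatModLib.LerayEquiv
import Groth.Agent.TorsH1Lib.Coh
import Mathlib

/-!
# Multiplication by a trace discriminant factors through copies of the structure sheaf
-/

set_option autoImplicit false
set_option linter.style.haveILetI false
set_option linter.unusedSectionVars false
set_option maxHeartbeats 1000000
set_option backward.isDefEq.respectTransparency false
set_option backward.isDefEq.respectTransparency.types false

noncomputable section

universe u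

open CategoryTheory CategoryTheory.Limits AlgebraicGeometry TopologicalSpace Opposite

namespace ModUpLib

open RatModLib Groth.Agent
open RatModLib.TraceSplit (Over ev ev_app ev_res exists_unique_trace)

section Geo

variable {X Y : Scheme.{u}} [IsIntegral X] {π : Y ⟶ X} {L : Type u} [Field L] {φ : X.functionField →+* L}
  {t : Spec (CommRingCat.of L) ⟶ Y} [IsIntegralHom π]

/-- The trace. -/
theorem exists_trace_hom (hn : Pi1.IsNormalScheme X) (ht : Over π L φ t) (hfd : φ.Finite) :
    ∃ R : (Coh.push π).obj (Coh.structureModule Y) ⟶ Coh.structureModule X,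
      ∀ (W : X.Opens) (z : Γ(Y, π ⁻¹ᵁ W)) (hW : (W : Set X).Nonempty),
        letI := φ.toAlgebra
        haveI : Nonempty W := hW.to_subtype
        (X.germToFunctionField W).hom (show Γ(X, W) from R.app W z) =
          Algebra.trace X.functionField L (ev ht hW z) := by
  letI := φ.toAlgebra
  haveI : FiniteDimensional X.functionField L := hfd
  haveI : Nonempty (⊤ : X.Opens) := ⟨⟨genericPoint X, trivial⟩⟩
  choose r hr huniq using fun (W : X.Opens) (z : Γ(Y, π ⁻¹ᵁ W)) => exists_unique_trace hn ht hfd 1 z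
  let rA : ∀ W : X.Opens, Γ(Y, π ⁻¹ᵁ W) →+ Γ(X, W) := fun W =>
    AddMonoidHom.mk' (r W) fun a b => (huniq W _ _ fun hW => by
      haveI : Nonempty W := hW.to_subtype
      rw [map_add, hr W a hW, hr W b hW, map_add, map_add, mul_add]).symm
  have hnat : ∀ (W U : X.Opens) (hle : U ≤ W) (z : Γ(Y, π ⁻¹ᵁ W)),
      rA U ((Y.presheaf.map (homOfLE (show π ⁻¹ᵁ U ≤ π ⁻¹ᵁ W from fun _ h => hle h)).op).hom z) =
        (X.presheaf.map (homOfLE hle).op).hom (rA W z) := fun W U hle z => by
    refine (huniq U _ _ fun hU => ?_).symm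
    haveI : Nonempty U := hU.to_subtype
    have hW : (W : Set X).Nonempty := hU.mono hle
    haveI : Nonempty W := hW.to_subtype
    rw [ev_res ht hW hU hle z]
    exact (X.presheaf.germ_res_apply _ _ _ _).trans (hr W z hW)
  have hsmul : ∀ (W : X.Opens) (a : Γ(X, W)) (z : Γ(Y, π ⁻¹ᵁ W)), rA W ((π.app W).hom a * z) = a * rA W z :=
    fun W a z => (huniq W _ _ fun hW => by
      haveI : Nonempty W := hW.to_subtype
      show (X.germToFunctionField W).hom (a * rA W z) = _
      rw [map_mul, show (X.germToFunctionField W).hom (rA W z) = _ from hr W z hW, map_mul, ev_app,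
        show φ ((X.germToFunctionField W).hom a) * ev ht hW z = ((X.germToFunctionField W).hom a) • ev ht hW z from
          (Algebra.smul_def _ _).symm, map_smul, smul_eq_mul]
      ring).symm
  let R : (Coh.push π).obj (Coh.structureModule Y) ⟶ Coh.structureModule X :=
    ⟨PresheafOfModules.homMk
      { app := fun U => AddCommGrpCat.ofHom (rA U.unop)
        naturality := fun U V i => by
          ext z
          exact hnat U.unop V.unop i.unop.le z }
      (fun U a z => hsmul U.unop a z)⟩
  refine ⟨R, fun W z hW => ?_⟩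
  haveI : Nonempty W := hW.to_subtype
  show (X.germToFunctionField W).hom (rA W z) = _
  rw [show (X.germToFunctionField W).hom (rA W z) = _ from hr W z hW, map_one, one_mul]

theorem ev_injective [IsIntegral Y] (ht : Over π L φ t) (hgen : t (IsLocalRing.closedPoint L) = genericPoint Y)
    {W : X.Opens} (hW : (W : Set X).Nonempty) : Function.Injective (ev ht hW) := by
  refine (injective_iff_map_eq_zero _).mpr fun z hz => ?_
  let p := IsLocalRing.closedPoint L
  have hp : t p ∈ π ⁻¹ᵁ W := TraceSplit.top_le ht hW (show p ∈ (⊤ : (Spec (CommRingCat.of L)).Opens) from trivial)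
  refine (injective_iff_map_eq_zero _).mp (germ_injective_of_isIntegral Y (t p) hp) z ?_
  have h0 : (t.appLE (π ⁻¹ᵁ W) ⊤ (TraceSplit.top_le ht hW)).hom z = 0 :=
    (ConcreteCategory.bijective_of_isIso (Scheme.ΓSpecIso (CommRingCat.of L)).hom).1 (hz.trans (map_zero _).symm)
  have h1 := congrArg ((Spec (CommRingCat.of L)).presheaf.germ ⊤ p trivial) h0
  rw [map_zero, Scheme.Hom.appLE] at h1
  have h2 : (t.stalkMap p).hom (Y.presheaf.germ (π ⁻¹ᵁ W) (t p) hp z) = 0 := by
    rw [Scheme.Hom.germ_stalkMap_apply]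
    exact ((Spec (CommRingCat.of L)).presheaf.germ_res_apply
      (homOfLE (TraceSplit.top_le ht hW)) p (by trivial) _).symm.trans h1
  have hF : IsField (Y.presheaf.stalk (t p)) := by rw [hgen]; exact Field.toIsField Y.functionField
  letI := hF.toField
  exact (map_eq_zero_iff _ (RingHom.injective (t.stalkMap p).hom)).mp h2

end Geo

section Lin

variable {A : Type u} [CommRing A] {X : Scheme.{u}} [X.Over (Spec (CommRingCat.of A))]

theorem mp_sum {M N : X.Modules} {ι : Type*} (s : Finset ι) (ψ : ι → (M ⟶ N)) {n : ℕ} (x : Coh.HH X M n) :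
    TorsH1Lib.mp (R := A) (∑ i ∈ s, ψ i) n x = ∑ i ∈ s, TorsH1Lib.mp (R := A) (ψ i) n x := by
  classical
  induction s using Finset.induction with
  | empty => rw [Finset.sum_empty, Finset.sum_empty]; exact TorsH1Lib.mp_zero x
  | insert a s ha ih => rw [Finset.sum_insert ha, Finset.sum_insert ha, TorsH1Lib.mp_add, ih]

/-- If multiplication by `d` factors through `n` copies of `M`, its image on `H¹` is small. -/
theorem length_range_le {P M : X.Modules} {n : ℕ} (d : A) (r : Fin n → (P ⟶ M)) (e : Fin n → (M ⟶ P))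
    (h : ∑ i, r i ≫ e i = Formal.smulMod A P d) :
    Module.length A ↥(LinearMap.range (d • LinearMap.id : Coh.HH X P 1 →ₗ[A] Coh.HH X P 1)) ≤
      n * Module.length A (Coh.HH X M 1) := by
  let Φ : (Fin n → Coh.HH X M 1) →ₗ[A] Coh.HH X P 1 :=
    ∑ i, (TorsH1Lib.mp (R := A) (e i) 1).comp (LinearMap.proj i)
  have hle : LinearMap.range (d • LinearMap.id : Coh.HH X P 1 →ₗ[A] Coh.HH X P 1) ≤ LinearMap.range Φ := by
    rintro _ ⟨x, rfl⟩
    refine ⟨fun i => TorsH1Lib.mp (R := A) (r i) 1 x, ?_⟩
    show Φ _ = d • x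
    rw [← TorsH1Lib.mp_smulMod, ← h, mp_sum, LinearMap.sum_apply]
    exact Finset.sum_congr rfl fun i _ => (TorsH1Lib.mp_comp (r i) (e i) x).symm
  refine (Module.length_le_of_injective (Submodule.inclusion hle) (Submodule.inclusion_injective hle)).trans ?_
  refine (Module.length_le_of_surjective Φ.rangeRestrict Φ.surjective_rangeRestrict).trans ?_
  rw [Module.length_pi_of_fintype, Finset.sum_const, Finset.card_univ, Fintype.card_fin, nsmul_eq_mul]

end Lin

section Main

variable {A : Type u} [CommRing A] {X Y : Scheme.{u}} [X.Over (Spec (CommRingCat.of A))]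
  [Y.Over (Spec (CommRingCat.of A))] [IsIntegral X] [IsIntegral Y] (π : Y ⟶ X) [IsIntegralHom π]
  {L : Type u} [Field L] {φ : X.functionField →+* L} {t : Spec (CommRingCat.of L) ⟶ Y}

theorem top_nonempty : ((⊤ : X.Opens) : Set X).Nonempty := ⟨genericPoint X, trivial⟩

/-- The bound on the image of `d` in `H¹` of a cover. -/
theorem length_range_cover_le (hπ : π ≫ (X ↘ Spec (CommRingCat.of A)) = Y ↘ Spec (CommRingCat.of A))
    [Coh.IsQCoh (Coh.structureModule Y)] (hn : Pi1.IsNormalScheme X) (ht : Over π L φ t) (hfd : φ.Finite)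
    (hgen : t (IsLocalRing.closedPoint L) = genericPoint Y)
    {n : ℕ} (b c : Fin n → Γ(Y, π ⁻¹ᵁ ⊤)) (d : A)
    (hid : letI := φ.toAlgebra; ∀ z : L, ∑ i, φ (Algebra.trace X.functionField L (ev ht top_nonempty (b i) * z)) *
      ev ht top_nonempty (c i) = ev ht top_nonempty (Coh.toGlobal (Y ↘ Spec (CommRingCat.of A)) d) * z) :
    Module.length A ↥(LinearMap.range (d • LinearMap.id :
        Coh.HH Y (Coh.structureModule Y) 1 →ₗ[A] Coh.HH Y (Coh.structureModule Y) 1)) ≤
      n * Module.length A (Coh.HH X (Coh.structureModule X) 1) := by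
  obtain ⟨R, hR⟩ := exists_trace_hom hn ht hfd
  let O := Coh.structureModule Y
  let r : Fin n → ((Coh.push π).obj O ⟶ Coh.structureModule X) := fun i =>
    (Coh.push π).map (Formal.smulModΓ O (b i)) ≫ R
  let e : Fin n → (Coh.structureModule X ⟶ (Coh.push π).obj O) := fun i =>
    ClSub.unitToPush π ≫ (Coh.push π).map (Formal.smulModΓ O (c i))
  have hsum : ∑ i, r i ≫ e i = Formal.smulMod A ((Coh.push π).obj O) d := by
    refine Scheme.Modules.hom_ext _ _ fun W => ConcreteCategory.hom_ext _ _ fun z => ?_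
    let z' : Γ(Y, π ⁻¹ᵁ W) := z
    let res : Γ(Y, π ⁻¹ᵁ ⊤) →+* Γ(Y, π ⁻¹ᵁ W) :=
      (Y.presheaf.map (homOfLE (show π ⁻¹ᵁ W ≤ π ⁻¹ᵁ ⊤ from fun _ _ => trivial)).op).hom
    have happ : ∀ (s : Finset (Fin n)), (∑ i ∈ s, r i ≫ e i).app W z = ∑ i ∈ s, (r i ≫ e i).app W z := by
      classical
      intro s
      induction s using Finset.induction with
      | empty => rw [Finset.sum_empty, Finset.sum_empty]; rfl
      | insert a s ha ih => rw [Finset.sum_insert ha, Finset.sum_insert ha, ← ih]; rfl
    refine (happ _).trans ?_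
    let q : Γ(X, W) := X.presheaf.map (homOfLE (le_top : W ≤ ⊤)).op (Coh.toGlobal (X ↘ Spec (CommRingCat.of A)) d)
    show ∑ i, res (c i) * (π.app W).hom (show Γ(X, W) from R.app W (show Γ(Y, π ⁻¹ᵁ W) from res (b i) * z')) =
      (π.app W).hom q * z'
    rcases Set.eq_empty_or_nonempty (W : Set X) with hW | hW
    · have hb : W = ⊥ := Opens.ext hW
      subst hb
      haveI : Subsingleton Γ(Y, π ⁻¹ᵁ ⊥) := inferInstanceAs (Subsingleton Γ(Y, ⊥))
      exact Subsingleton.elim (α := Γ(Y, π ⁻¹ᵁ ⊥)) _ _
    haveI : Nonempty W := hW.to_subtype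
    refine ev_injective ht hgen hW ?_
    letI := φ.toAlgebra
    have hres : ∀ w, ev ht hW (res w) = ev ht top_nonempty w := fun w => ev_res ht top_nonempty hW le_top w
    rw [map_sum, map_mul]
    have hq : (π.app W).hom q = res (Coh.toGlobal (Y ↘ Spec (CommRingCat.of A)) d) := by
      rw [← hπ]
      exact (congrArg (fun g => g.hom (Coh.toGlobal (X ↘ Spec (CommRingCat.of A)) d))
        (π.naturality (homOfLE (le_top : W ≤ ⊤)).op))
    rw [hq, hres, ← hid (ev ht hW z')]
    refine Finset.sum_congr rfl fun i _ => ?_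
    rw [map_mul, hres, ev_app, hR W _ hW, map_mul, hres, mul_comm]
  have hbound := length_range_le d r e hsum
  haveI : HasInjectiveResolutions Y.Modules := inferInstance
  obtain ⟨E⟩ := RatModLib.exists_equiv_H1 (A := A) π hπ O (TildeDerLib.isZero_Rpush_affine π O 1 one_pos)
  have hmap : (LinearMap.range (d • LinearMap.id : Coh.HH Y O 1 →ₗ[A] Coh.HH Y O 1)) =
      (LinearMap.range (d • LinearMap.id : Coh.HH X ((Coh.push π).obj O) 1 →ₗ[A] _)).map E.toLinearMap := by
    ext y
    constructor
    · rintro ⟨x, rfl⟩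
      exact ⟨d • E.symm x, ⟨E.symm x, rfl⟩, (E.map_smul d _).trans (congrArg (d • ·) (E.apply_symm_apply x))⟩
    · rintro ⟨_, ⟨x, rfl⟩, rfl⟩
      exact ⟨E x, (E.map_smul d x).symm⟩
  rw [hmap, ← (E.submoduleMap _).length_eq]
  exact hbound

end Main

end ModUpLib
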