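import Groth.Agent.ModUpLib.Kronecker
import Groth.Agent.ModUpLib.Trace
import Groth.Agent.ModUpLib.Edge
import Groth.Agent.ModUpLib.Cover
import Groth.Agent.ModTorsLib.Torsion
import Groth.Agent.RatModLib.Normal
import Groth.Agent.S1274
import Groth.Agent.H0Lib.IsoLocus
import Mathlib

/-!
# Bounds on `H¹` of modifications go up along separable finite extensions
-/

set_option autoImplicit false
set_option linter.style.haveILetI false
set_option linter.unusedSectionVars false
set_option maxHeartbeats 1000000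
set_option backward.isDefEq.respectTransparency false
set_option backward.isDefEq.respectTransparency.types false

universe u

open CategoryTheory CategoryTheory.Limits AlgebraicGeometry TopologicalSpace Opposite IsLocalRing

noncomputable section

namespace ModUpLib

open RatModLib Groth.Agent

theorem toGlobal_comp_spec {A B : Type u} [CommRing A] [CommRing B] (ι : A →+* B) {W : Scheme.{u}}
    (p : W ⟶ Spec (CommRingCat.of B)) (a : A) :
    Coh.toGlobal (p ≫ Spec.map (CommRingCat.ofHom ι)) a = Coh.toGlobal p (ι a) := by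
  have h := congrArg (fun g => g.hom a) (Scheme.ΓSpecIso_inv_naturality (CommRingCat.ofHom ι))
  show ((p ≫ Spec.map (CommRingCat.ofHom ι)).appTop).hom ((Scheme.ΓSpecIso (CommRingCat.of A)).inv.hom a) =
    p.appTop.hom ((Scheme.ΓSpecIso (CommRingCat.of B)).inv.hom (ι a))
  rw [Scheme.Hom.comp_appTop]
  exact congrArg p.appTop.hom h.symm

theorem ev_toGlobal {X W : Scheme.{u}} [IsIntegral X] {π : W ⟶ X} {L : Type u} [Field L] {φ : X.functionField →+* L}
    {t : Spec (CommRingCat.of L) ⟶ W} (ht : TraceSplit.Over π L φ t) {B : Type u} [CommRing B]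
    (p : W ⟶ Spec (CommRingCat.of B)) (ρ : B →+* L) (h : t ≫ p = Spec.map (CommRingCat.ofHom ρ)) (b : B) :
    TraceSplit.ev ht top_nonempty (Coh.toGlobal p b) = ρ b := by
  show (Scheme.ΓSpecIso (CommRingCat.of L)).hom.hom ((t.appLE (π ⁻¹ᵁ ⊤) ⊤ _).hom (Coh.toGlobal p b)) = _
  rw [show t.appLE (π ⁻¹ᵁ ⊤) ⊤ (TraceSplit.top_le ht top_nonempty) = t.appTop from Scheme.Hom.appLE_eq_app ..]
  have h1 : t.appTop.hom (Coh.toGlobal p b) = Coh.toGlobal (t ≫ p) b := by
    show _ = ((t ≫ p).appTop).hom ((Scheme.ΓSpecIso (CommRingCat.of B)).inv.hom b)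
    rw [Scheme.Hom.comp_appTop]
    rfl
  refine (congrArg (Scheme.ΓSpecIso (CommRingCat.of L)).hom.hom h1).trans ?_
  rw [h]
  show ((Scheme.ΓSpecIso (CommRingCat.of B)).inv ≫ (Spec.map (CommRingCat.ofHom ρ)).appTop ≫
    (Scheme.ΓSpecIso (CommRingCat.of L)).hom).hom b = _
  rw [Scheme.ΓSpecIso_naturality, Iso.inv_hom_id_assoc]
  rfl

section Prep

variable {A B : Type u} [CommRing A] [CommRing B] [IsDomain A] [IsDomain B] [Algebra A B] [Algebra.IsIntegral A B]

/-- An ideal downstairs principalizing a given ideal upstairs. -/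
theorem exists_principalizer (hinj : Function.Injective (algebraMap A B)) (J : Ideal B) (hJ : J ≠ ⊥) (hJfg : J.FG) :
    ∃ I : Ideal A, I ≠ ⊥ ∧ ∀ (R : Type u) [CommRing R] [IsDomain R] [IsLocalRing R] [IsIntegrallyClosed R]
      (ψ : B →+* R), Function.Injective ψ →
      (∃ t : R, t ≠ 0 ∧ I.map (ψ.comp (algebraMap A B)) = Ideal.span {t}) →
      ∃ s : R, s ≠ 0 ∧ J.map ψ = Ideal.span {s} := by
  classical
  obtain ⟨m, g, hg⟩ := Submodule.fg_iff_exists_fin_generating_family.mp hJfg
  let P : Polynomial B := ∑ i : Fin m, Polynomial.monomial (i : ℕ) (g i)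
  have hcoef : ∀ i : Fin m, P.coeff i = g i := fun i => by
    simp only [P, Polynomial.finsetSum_coeff, Polynomial.coeff_monomial, Fin.val_inj]
    simp
  have hmem : ∀ n, P.coeff n ∈ J := fun n => by
    simp only [P, Polynomial.finsetSum_coeff, Polynomial.coeff_monomial]
    refine Ideal.sum_mem _ fun i _ => ?_
    split_ifs with h
    · exact hg ▸ Submodule.subset_span ⟨i, rfl⟩
    · exact Ideal.zero_mem _
  have hP : P ≠ 0 := fun h0 => hJ (by
    rw [← hg, Submodule.span_eq_bot]
    rintro _ ⟨i, rfl⟩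
    rw [← hcoef, h0, Polynomial.coeff_zero])
  obtain ⟨G, N, hN, hPG⟩ := exists_multiple_over (A := A) hP
  refine ⟨Ideal.span (Set.range N.coeff), fun h => hN (Polynomial.ext fun n => ?_), ?_⟩
  · rw [Polynomial.coeff_zero]
    exact (Submodule.span_eq_bot.mp h) _ ⟨n, rfl⟩
  rintro R _ _ _ _ ψ hψ ⟨t, ht, hI⟩
  have hcN : (P.map ψ * G.map ψ).coeff = fun n => ψ (algebraMap A B (N.coeff n)) := by
    funext n
    rw [← Polynomial.map_mul, hPG, Polynomial.coeff_map, Polynomial.coeff_map]
  have hspan : Ideal.span (Set.range (P.map ψ * G.map ψ).coeff) = Ideal.span {t} := by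
    rw [← hI, Ideal.map_span, ← Set.range_comp, hcN]
    rfl
  obtain ⟨i, hi0, hdvd⟩ := principal_of_multiple ht hspan
  refine ⟨(P.map ψ).coeff i, hi0, le_antisymm ?_ ?_⟩
  · rw [← hg, show Submodule.span B (Set.range g) = Ideal.span (Set.range g) from rfl, Ideal.map_span, Ideal.span_le]
    rintro _ ⟨_, ⟨j, rfl⟩, rfl⟩
    rw [← hcoef, ← Polynomial.coeff_map]
    exact Ideal.mem_span_singleton.mpr (hdvd _)
  · rw [Ideal.span_singleton_le_iff_mem, Polynomial.coeff_map]
    exact Ideal.mem_map_of_mem _ (hmem i)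

/-- Elements of the fraction field have a common denominator in the base. -/
theorem exists_common_denominator [IsIntegrallyClosed B] (K L : Type u) [Field K] [Field L] [Algebra A K] [IsFractionRing A K]
    [Algebra B L] [IsFractionRing B L] [Algebra K L] [Algebra A L] [IsScalarTower A K L] [IsScalarTower A B L]
    [FiniteDimensional K L] {n : ℕ} (x : Fin n → L) :
    ∃ d : A, d ≠ 0 ∧ ∀ i, ∃ b : B, algebraMap B L b = algebraMap A L d * x i := by
  classical
  haveI : Algebra.IsAlgebraic A K := IsLocalization.isAlgebraic K (nonZeroDivisors A)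
  haveI : Algebra.IsAlgebraic A L := Algebra.IsAlgebraic.trans A K L
  obtain ⟨d, hd, hint⟩ := Algebra.IsAlgebraic.exists_integral_multiples A (Finset.univ.image x)
  refine ⟨d, hd, fun i => ?_⟩
  have h := hint (x i) (Finset.mem_image_of_mem _ (Finset.mem_univ i))
  obtain ⟨b, hb⟩ := IsIntegrallyClosed.isIntegral_iff.mp (h.tower_top (A := B))
  exact ⟨b, hb.trans (Algebra.smul_def d _)⟩

end Prep

variable (A B : Type u) [CommRing A] [CommRing B] [IsDomain A] [IsDomain B]
    [IsLocalRing A] [IsLocalRing B] [IsNoetherianRing A] [IsNoetherianRing B] [IsIntegrallyClosed A] [IsIntegrallyClosed B]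

theorem goes_up (hNA : CAlg.IsNagata A) (hNB : CAlg.IsNagata B) (hdB : ringKrullDim B = 2)
    [Algebra A B] [Module.Finite A B] (hinj : Function.Injective (algebraMap A B))
    (K L : Type u) [Field K] [Field L] [Algebra A K] [IsFractionRing A K]
    [Algebra B L] [IsFractionRing B L] [Algebra K L] [Algebra A L] [IsScalarTower A K L] [IsScalarTower A B L]
    [Algebra.IsSeparable K L] (NA : ℕ)
    (hA : ∀ (X : Scheme.{u}) [X.Over (Spec (CommRingCat.of A))], IsProper (X ↘ Spec (CommRingCat.of A)) →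
        IsIntegral X → Pi1.IsNormalScheme X →
        (∃ U : (Spec (CommRingCat.of A)).Opens, (U : Set (Spec (CommRingCat.of A))).Nonempty ∧ IsIso ((X ↘ Spec (CommRingCat.of A)) ∣_ U)) →
        Module.length A (Coh.HH X (Coh.structureModule X) 1) ≤ (NA : ℕ∞)) :
    ∃ N : ℕ, ∀ (Y : Scheme.{u}) [Y.Over (Spec (CommRingCat.of B))], IsProper (Y ↘ Spec (CommRingCat.of B)) →
        IsIntegral Y → Pi1.IsNormalScheme Y →
        (∃ U : (Spec (CommRingCat.of B)).Opens, (U : Set (Spec (CommRingCat.of B))).Nonempty ∧ IsIso ((Y ↘ Spec (CommRingCat.of B)) ∣_ U)) →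
        Module.length B (Coh.HH Y (Coh.structureModule Y) 1) ≤ (N : ℕ∞) := by
  classical
  haveI : FiniteDimensional K L := NormalLib.finiteDimensional_fractionRing (R := A) (S := B) K L hinj
  -- the dual bases
  let n := Module.finrank K L
  let bas := Module.finBasis K L
  have hnd := traceForm_nondegenerate K L
  let dual := (Algebra.traceForm K L).dualBasis hnd bas
  obtain ⟨d₁, hd₁, hb⟩ := exists_common_denominator (A := A) (B := B) K L (fun i : Fin n => bas i)
  obtain ⟨d₂, hd₂, hc⟩ := exists_common_denominator (A := A) (B := B) K L (fun i : Fin n => dual i)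
  choose b hb using hb
  choose c hc using hc
  let d := d₁ * d₂
  have hd : d ≠ 0 := mul_ne_zero hd₁ hd₂
  have hidL : ∀ z : L, ∑ i, algebraMap K L (Algebra.trace K L (algebraMap B L (b i) * z)) * algebraMap B L (c i) =
      algebraMap A L d * z := by
    intro z
    have h1 : ∀ i, Algebra.trace K L (algebraMap B L (b i) * z) = algebraMap A K d₁ * dual.repr z i := fun i => by
      rw [hb, LinearMap.BilinForm.dualBasis_repr_apply, Algebra.traceForm_apply, mul_assoc,
        IsScalarTower.algebraMap_apply A K L, ← Algebra.smul_def, map_smul, smul_eq_mul, mul_comm (bas i) z]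
    calc ∑ i, algebraMap K L (Algebra.trace K L (algebraMap B L (b i) * z)) * algebraMap B L (c i)
        = ∑ i, algebraMap A L d * (dual.repr z i • dual i) := Finset.sum_congr rfl fun i _ => by
          rw [h1, hc, map_mul, Algebra.smul_def, ← IsScalarTower.algebraMap_apply A K L, map_mul]
          ring
      _ = algebraMap A L d * z := by rw [← Finset.mul_sum, dual.sum_repr]
  -- the bound
  obtain ⟨NB, hNB'⟩ := ModTorsLib.exists_bound B hNB hdB (algebraMap A B d) ((map_ne_zero_iff _ hinj).mpr hd)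
  refine ⟨NB + n * NA, fun Y _ hYp hYi hYn hYb => ?_⟩
  let cY := Y ↘ Spec (CommRingCat.of B)
  haveI := hYp; haveI := hYi
  obtain ⟨U, hU, hUiso⟩ := hYb
  haveI := hUiso
  haveI : IsNoetherian (Spec (CommRingCat.of B)) := inferInstance
  obtain ⟨𝓘, S', bl, hbl, hadm, h, hh⟩ := Groth.Agent.S1274.result cY U (NoetherianSpace.isCompact _)
  let J : Ideal B := (𝓘.ideal ⟨⊤, isAffineOpen_top _⟩).comap (Scheme.ΓSpecIso (CommRingCat.of B)).inv.hom
  have hJ : J ≠ ⊥ := fun h0 => by
    have h1 : 𝓘.ideal ⟨⊤, isAffineOpen_top _⟩ = ⊥ := le_bot_iff.mp fun x hx => by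
      obtain ⟨x', rfl⟩ := (ConcreteCategory.bijective_of_isIso (Scheme.ΓSpecIso (CommRingCat.of B)).inv).2 x
      have : x' ∈ J := hx
      rw [h0, Ideal.mem_bot] at this
      rw [this, map_zero]
      exact Ideal.zero_mem _
    obtain ⟨q, hq⟩ := hU
    refine Set.disjoint_left.mp hadm.2 ?_ hq
    refine (SDivLib.mem_support_iff_stalk 𝓘 q).2 ?_
    rw [SDivLib.stalkIdeal_eq _ ⟨⊤, isAffineOpen_top _⟩ (x := q) trivial, h1, Ideal.map_bot]
    exact bot_ne_top
  obtain ⟨I, hI, hprin⟩ := exists_principalizer (A := A) hinj J hJ (IsNoetherian.noetherian J)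
  -- the modification downstairs
  have hNA' : ∀ U : (Spec (CommRingCat.of A)).affineOpens, CAlg.IsNagata Γ(Spec (CommRingCat.of A), U.1) :=
    fun U => Groth.Agent.S9833.result (Spec (CommRingCat.of A)) (fun _ : PUnit.{u+1} => ⊤) (iSup_const) (fun _ => isAffineOpen_top _)
      (fun _ => by
        letI := ((Scheme.ΓSpecIso (CommRingCat.of A)).inv.hom).toAlgebra
        haveI : Algebra.FiniteType A Γ(Spec (CommRingCat.of A), ⊤) :=
          RingHom.FiniteType.of_surjective _ (ConcreteCategory.bijective_of_isIso (Scheme.ΓSpecIso (CommRingCat.of A)).inv).2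
        exact Groth.Agent.S0566.result A hNA Γ(Spec (CommRingCat.of A), ⊤)) U.1 U.2
  have hI' : Curv2.idealSheaf A I ≠ ⊥ := fun h0 => hI (le_bot_iff.1 fun m hm => by
    have h1 := PtBlowLib.idealSheaf_top I
    rw [h0, Scheme.IdealSheafData.ideal_bot, Pi.bot_apply] at h1
    have h2 : (Scheme.ΓSpecIso (CommRingCat.of A)).inv.hom m = 0 :=
      Ideal.mem_bot.1 (h1 ▸ Ideal.mem_map_of_mem _ hm)
    exact Ideal.mem_bot.2 ((ConcreteCategory.bijective_of_isIso (Scheme.ΓSpecIso (CommRingCat.of A)).inv).1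
      (h2.trans (map_zero _).symm)))
  obtain ⟨Bl, X, bB, ν, hbB, hproj, hXi, hXn, U₀, hU₀, hU₀i⟩ :=
    ModifLib.exists_normalized_blowUp (ParaFLib.isNormal_spec A) hNA' (Curv2.idealSheaf A I) hI'
  haveI := hXi
  haveI := hU₀i
  let f := ν ≫ bB
  haveI : IsProper f := RelProjLib.isProper_of_isProjective hproj
  have hXI : ∀ x : X, ∃ t, I.map (phi f x) = Ideal.span {t} := fun x => by
    obtain ⟨t, -, hts⟩ := SDivLib.exists_gen hbB.1 (ν x)
    refine ⟨(ν.stalkMap x).hom t, ?_⟩
    rw [← stalkIdeal_pre]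
    show IntMult.stalkIdeal ((Curv2.idealSheaf A I).comap (ν ≫ bB)) x = _
    rw [Scheme.IdealSheafData.comap_comp, DivDescLib.stalkIdeal_comap, hts, Ideal.map_span, Set.image_singleton]
  obtain ⟨φ, W, π, p, t, hφ, htr, hπ, hWi, hWn, hMod, hcomm, ht, htp, htgen⟩ :=
    exists_cover A B hNA hinj K L X f inferInstance inferInstance hXn ⟨U₀, hU₀, hU₀i⟩
  haveI := hπ; haveI := hWi
  haveI : IsProper p := hMod.proper
  obtain ⟨V, hV, hViso⟩ := hMod.iso
  haveI := hViso
  -- the ideal is invertible upstairs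
  have hgenW : ModTorsLib.IsModif W p := ⟨inferInstance, inferInstance, hWn, V, hV, hViso⟩
  have hphi : ∀ w : W, Function.Injective (phi p w) := fun w => (injective_iff_map_eq_zero _).mpr fun x hx => by
    by_contra hx0
    exact hgenW.phi_ne_zero hx0 w hx
  haveI : IsLocallyNoetherian W := LocallyOfFiniteType.isLocallyNoetherian p
  have hE : BlowUp.IsEffCartierIdeal (𝓘.comap p) := by
    refine EffCartLib.isEffCartier_of_stalk _ fun w _ O hw => ?_
    haveI := (hWn w).1; haveI := (hWn w).2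
    obtain ⟨t0, ht0⟩ := hXI (π w)
    have hcomp : (phi p w).comp (algebraMap A B) = (π.stalkMap w).hom.comp (phi f (π w)) := RingHom.ext fun a => by
      show phi p w (algebraMap A B a) = (π.stalkMap w).hom (phi f (π w) a)
      rw [stalkMap_phi π f (π ≫ f) rfl w a]
      show W.presheaf.germ ⊤ w trivial (Coh.toGlobal p (algebraMap A B a)) = _
      rw [← toGlobal_comp_spec, hcomm]
      rfl
    have ht' : I.map ((phi p w).comp (algebraMap A B)) = Ideal.span {(π.stalkMap w).hom t0} := by
      rw [hcomp, ← Ideal.map_map, ht0, Ideal.map_span, Set.image_singleton]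
    obtain ⟨s, hs0, hs⟩ := hprin (W.presheaf.stalk w) (phi p w) (hphi w) ⟨_, fun h0 => by
      obtain ⟨a, haI, ha⟩ := Submodule.exists_mem_ne_zero_of_ne_bot hI
      have h1 := ht' ▸ Ideal.mem_map_of_mem ((phi p w).comp (algebraMap A B)) haI
      rw [h0, Ideal.mem_span_singleton, zero_dvd_iff] at h1
      exact ha (hinj ((hphi w) (h1.trans (map_zero _).symm) |>.trans (map_zero _).symm)), ht'⟩
    refine ⟨s, mem_nonZeroDivisors_of_ne_zero hs0, ?_⟩
    rw [← SDivLib.stalkIdeal_eq _ O hw, DivDescLib.stalkIdeal_comap,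
      SDivLib.stalkIdeal_eq 𝓘 ⟨⊤, isAffineOpen_top _⟩ (x := p w) trivial, Ideal.map_map, ← hs]
    have hJmap : J.map (Scheme.ΓSpecIso (CommRingCat.of B)).inv.hom = 𝓘.ideal ⟨⊤, isAffineOpen_top _⟩ :=
      Ideal.map_comap_of_surjective _ (ConcreteCategory.bijective_of_isIso (Scheme.ΓSpecIso (CommRingCat.of B)).inv).2 _
    rw [← hJmap, Ideal.map_map]
    refine congrArg (fun ψ => J.map ψ) (RingHom.ext fun x => ?_)
    exact Scheme.Hom.germ_stalkMap_apply p ⊤ w trivial _
  obtain ⟨h', hh', -⟩ := hbl.2 W p hE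
  let q := h' ≫ h
  have hq : q ≫ cY = p := by rw [Category.assoc, hh, hh']
  haveI : IsProper (q ≫ cY) := hq ▸ inferInstance
  haveI : IsProper q := IsProper.of_comp q cY
  -- the pushforward of the structure sheaf
  haveI : IsLocallyNoetherian Y := LocallyOfFiniteType.isLocallyNoetherian cY
  have hqbir : ∃ O : Y.Opens, (O : Set Y).Nonempty ∧ IsIso (q ∣_ O) := by
    refine ⟨cY ⁻¹ᵁ (U ⊓ V), ?_, ?_⟩
    · have hne : ((U ⊓ V : (Spec (CommRingCat.of B)).Opens) : Set (Spec (CommRingCat.of B))).Nonempty :=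
        nonempty_preirreducible_inter U.2 V.2 hU hV
      obtain ⟨x, hxU, hxV⟩ := hne
      obtain ⟨y, hy⟩ := (cY ∣_ U).surjective ⟨x, hxU⟩
      have hcy : cY y.1 = x := (morphismRestrict_base_coe cY U y).symm.trans (congrArg Subtype.val hy)
      exact ⟨y.1, show cY y.1 ∈ U ⊓ V from hcy ▸ ⟨hxU, hxV⟩⟩
    · haveI : IsIso (cY ∣_ (U ⊓ V)) := H0Lib.isIso_restrict_of_le cY inf_le_left hUiso
      haveI h2 : IsIso ((q ≫ cY) ∣_ (U ⊓ V)) := by
        rw [hq]; exact H0Lib.isIso_restrict_of_le p inf_le_right hViso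
      rw [morphismRestrict_comp] at h2
      exact IsIso.of_isIso_comp_right _ (cY ∣_ (U ⊓ V))
  obtain ⟨O, hO, hOiso⟩ := hqbir
  haveI : IsIso (ClSub.unitToPush q) := CohCmpLib.isIso_unitToPush_of_app q fun O' =>
    CurveFamNormLib.isIso_app_of_birational_normal q hYn O hO O'
  letI : W.Over (Spec (CommRingCat.of B)) := ⟨p⟩
  have hinjH : Module.length B (Coh.HH Y (Coh.structureModule Y) 1) ≤ Module.length B (Coh.HH W (Coh.structureModule W) 1) := by
    rw [(ModifLib.hLIso (A := B) (asIso (ClSub.unitToPush q)) 1).length_eq]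
    exact length_push_le q hq (Coh.structureModule W)
  refine hinjH.trans ?_
  -- the structures over the base
  letI : X.Over (Spec (CommRingCat.of A)) := ⟨f⟩
  letI : W.Over (Spec (CommRingCat.of A)) := ⟨π ≫ f⟩
  let H := Coh.HH W (Coh.structureModule W) 1
  have hsm : ∀ (a : A) (x : H), algebraMap A B a • x = a • x := fun a x => by
    show Coh.toGlobal p (algebraMap A B a) • x = Coh.toGlobal (π ≫ f) a • x
    rw [← toGlobal_comp_spec, hcomm]
  haveI : IsScalarTower A B H := ⟨fun a b x => by rw [Algebra.smul_def, mul_smul, hsm]⟩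
  let μ : H →ₗ[B] H := algebraMap A B d • LinearMap.id
  have hker : Module.length B (LinearMap.ker μ) ≤ NB := by
    refine le_of_eq_of_le ?_ (hNB' W hgenW)
    exact congrArg (fun S : Submodule B H => Module.length B S) (Submodule.ext fun x => Iff.rfl)
  have hrange : Module.length B (LinearMap.range μ) ≤ n * (NA : ℕ∞) := by
    refine (Submodule.length_le_length_restrictScalars A _).trans ?_
    have heq : (LinearMap.range μ).restrictScalars A = LinearMap.range (d • LinearMap.id : H →ₗ[A] H) :=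
      Submodule.ext fun x => ⟨fun ⟨y, hy⟩ => ⟨y, (hsm d y).symm.trans hy⟩, fun ⟨y, hy⟩ => ⟨y, (hsm d y).trans hy⟩⟩
    rw [heq]
    haveI : Coh.IsQCoh (Coh.structureModule W) := QCohLib.isQCoh_unit
    have hgen : t (closedPoint L) = genericPoint W :=
      ((htgen _ _).antisymm (genericPoint_specializes _)).eq
    refine (length_range_cover_le (A := A) π rfl hXn ht hφ hgen (fun i => Coh.toGlobal p (b i))
      (fun i => Coh.toGlobal p (c i)) d (fun z => ?_)).trans
      (mul_le_mul_of_nonneg_left (hA X (inferInstanceAs (IsProper f)) inferInstance hXn ⟨U₀, hU₀, hU₀i⟩) bot_le)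
    have hd' : TraceSplit.ev ht top_nonempty (Coh.toGlobal (π ≫ f) d) = algebraMap A L d := by
      rw [← hcomm, toGlobal_comp_spec, ev_toGlobal ht p _ htp, IsScalarTower.algebraMap_apply A B L]
    rw [show (W ↘ Spec (CommRingCat.of A)) = π ≫ f from rfl, hd', ← hidL z]
    refine Finset.sum_congr rfl fun i _ => ?_
    rw [ev_toGlobal ht p _ htp, ev_toGlobal ht p _ htp, htr]
  calc Module.length B H = Module.length B (LinearMap.ker μ) + Module.length B (LinearMap.range μ) :=
        Module.length_eq_add_of_exact (LinearMap.ker μ).subtype μ.rangeRestrict Subtype.val_injective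
          μ.surjective_rangeRestrict (LinearMap.exact_iff.mpr (by rw [LinearMap.ker_rangeRestrict, Submodule.range_subtype]))
    _ ≤ _ := by push_cast; exact add_le_add hker hrange

end ModUpLib
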